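import Groth.Agent.Lib.QCoh.PullbackSections
import Groth.Agent.Lib.QCoh.Qcqs
import Groth.Agent.Lib.QCoh.Filtration
import Mathlib.Algebra.Category.Ring.Constructions
import Mathlib.RingTheory.IsTensorProduct
import Mathlib.AlgebraicGeometry.Morphisms.Affine

/-!
# Base change of quasi-coherent modules along affine morphisms
-/

set_option autoImplicit false
set_option linter.all false
set_option backward.isDefEq.respectTransparency false

universe u

open CategoryTheory AlgebraicGeometry Opposite TopologicalSpace TensorProduct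
open Scheme.Modules (pullback pushforward pullbackPushforwardAdjunction pushforwardComp pushforwardCongr)

noncomputable section

namespace GrothLib.AffBC

variable {X S X' S' : Scheme.{u}} {f : X ⟶ S} {g : S' ⟶ S} {g' : X' ⟶ X} {f' : X' ⟶ S'}

/-- The adjoint form of the base change map. -/
def bcV (h : IsPullback g' f' f g) (F : X.Modules) :
    (pushforward f).obj F ⟶ (pushforward g).obj ((pushforward f').obj ((pullback g').obj F)) :=
  (pushforward f).map ((pullbackPushforwardAdjunction g').unit.app F) ≫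
    (pushforwardComp g' f).hom.app ((pullback g').obj F) ≫
    (pushforwardCongr h.w).hom.app ((pullback g').obj F) ≫
    (pushforwardComp f' g).inv.app ((pullback g').obj F)

/-- The base change map. -/
def bcMap (h : IsPullback g' f' f g) (F : X.Modules) :
    (pullback g).obj ((pushforward f).obj F) ⟶ (pushforward f').obj ((pullback g').obj F) :=
  ((pullbackPushforwardAdjunction g).homEquiv ((pushforward f).obj F)
    ((pushforward f').obj ((pullback g').obj F))).symm (bcV h F)

theorem preimage_le (h : IsPullback g' f' f g) {V : S.Opens} {W : S'.Opens} (e : W ≤ g ⁻¹ᵁ V) :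
    f' ⁻¹ᵁ W ≤ g' ⁻¹ᵁ (f ⁻¹ᵁ V) := by
  rw [← Scheme.Hom.comp_preimage, h.w, Scheme.Hom.comp_preimage]
  exact f'.preimage_mono e

theorem bcMap_pullSec (h : IsPullback g' f' f g) (F : X.Modules) {V : S.Opens} {W : S'.Opens}
    (e : W ≤ g ⁻¹ᵁ V) (s : Γ(F, f ⁻¹ᵁ V)) :
    (bcMap h F).app W (QCoh.pullSec g ((pushforward f).obj F) e s) =
      QCoh.pullSec g' F (preimage_le h e) s := by
  let G := (pullback g').obj F
  have hv : (pullbackPushforwardAdjunction g).unit.app ((pushforward f).obj F) ≫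
      (pushforward g).map (bcMap h F) = bcV h F :=
    ((pullbackPushforwardAdjunction g).homEquiv_unit _ _ _).symm.trans (Equiv.apply_symm_apply _ _)
  have h1 : (bcMap h F).app (g ⁻¹ᵁ V)
      (((pullbackPushforwardAdjunction g).unit.app ((pushforward f).obj F)).app V s) =
      (bcV h F).app V s := by
    rw [← hv]; rfl
  have hmap : (bcV h F).app V s = G.presheaf.map (homOfLE (preimage_le h (le_refl (g ⁻¹ᵁ V)))).op
      (((pullbackPushforwardAdjunction g').unit.app F).app (f ⁻¹ᵁ V) s) := by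
    simp only [bcV, Scheme.Modules.Hom.comp_app, Scheme.Modules.pushforwardComp_hom_app_app,
      Scheme.Modules.pushforwardCongr_hom_app_app, Scheme.Modules.pushforwardComp_inv_app_app]
    rfl
  show (bcMap h F).app W (((pullback g).obj ((pushforward f).obj F)).presheaf.map (homOfLE e).op _) = _
  refine ((QCoh.map_app (bcMap h F) (homOfLE e) _).symm).trans ?_
  refine (congrArg _ (h1.trans hmap)).trans ?_
  show G.presheaf.map (homOfLE (f'.preimage_mono e)).op (G.presheaf.map _ _) = _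
  rw [← ConcreteCategory.comp_apply, ← Functor.map_comp]
  rfl

/-- The base change map is bijective on small affine opens. -/
theorem bijective_app (h : IsPullback g' f' f g) [IsAffineHom f] (F : X.Modules) [F.IsQuasicoherent]
    {V : S.Opens} (hV : IsAffineOpen V) {W : S'.Opens} (hW : IsAffineOpen W) (hle : W ≤ g ⁻¹ᵁ V) :
    Function.Bijective ((bcMap h F).app W) := by
  haveI : IsAffineHom f' := MorphismProperty.of_isPullback h ‹IsAffineHom f›
  haveI := QCoh.isQuasicoherent_pushforward f F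
  have hU : IsAffineOpen (f ⁻¹ᵁ V) := hV.preimage f
  have hP : IsAffineOpen (f' ⁻¹ᵁ W) := hW.preimage f'
  have hle2 : f' ⁻¹ᵁ W ≤ g' ⁻¹ᵁ (f ⁻¹ᵁ V) := preimage_le h hle
  have hUY : f' ⁻¹ᵁ W = g' ⁻¹ᵁ (f ⁻¹ᵁ V) ⊓ f' ⁻¹ᵁ W := (inf_eq_right.2 hle2).symm
  have hpo := (isIso_pushoutSection_iff h hle le_rfl hUY).1
    (isIso_pushoutSection_of_isAffineOpen h hle le_rfl hUY hV hW hU)
  rw [Scheme.Hom.appLE_eq_app, Scheme.Hom.appLE_eq_app] at hpo
  letI := (f.app V).hom.toAlgebra
  letI := (g.appLE V W hle).hom.toAlgebra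
  letI := (g'.appLE (f ⁻¹ᵁ V) (f' ⁻¹ᵁ W) hle2).hom.toAlgebra
  letI := (f'.app W).hom.toAlgebra
  letI := ((g.appLE V W hle ≫ f'.app W).hom).toAlgebra
  haveI : IsScalarTower Γ(S, V) Γ(S', W) Γ(X', f' ⁻¹ᵁ W) := .of_algebraMap_eq' rfl
  haveI : IsScalarTower Γ(S, V) Γ(X, f ⁻¹ᵁ V) Γ(X', f' ⁻¹ᵁ W) := by
    refine .of_algebraMap_eq' ?_
    have := hpo.w
    exact congrArg CommRingCat.Hom.hom this.symm
  haveI : Algebra.IsPushout Γ(S, V) Γ(S', W) Γ(X, f ⁻¹ᵁ V) Γ(X', f' ⁻¹ᵁ W) :=
    CommRingCat.isPushout_iff_isPushout.1 hpo.flip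
  letI : Module Γ(S, V) Γ(F, f ⁻¹ᵁ V) := Module.compHom _ (f.app V).hom
  haveI : IsScalarTower Γ(S, V) Γ(X, f ⁻¹ᵁ V) Γ(F, f ⁻¹ᵁ V) := .of_algebraMap_smul fun _ _ => rfl
  let ι : Γ((pushforward f).obj F, V) ≃ₗ[Γ(S, V)] Γ(F, f ⁻¹ᵁ V) :=
    { toFun := fun x => x
      invFun := fun x => x
      map_add' := fun _ _ => rfl
      map_smul' := fun r x => QCoh.pushforward_smul f F r x
      left_inv := fun _ => rfl
      right_inv := fun _ => rfl }
  let σ := QCoh.sectionsMap g ((pushforward f).obj F) hle rfl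
  let σ' := QCoh.sectionsMap g' F hle2 rfl
  let κ := (ι.lTensor Γ(S', W)).toEquiv.trans
    (Algebra.IsPushout.cancelBaseChange Γ(S, V) Γ(S', W) Γ(X, f ⁻¹ᵁ V) Γ(X', f' ⁻¹ᵁ W) Γ(F, f ⁻¹ᵁ V)).symm.toEquiv
  have key : ∀ z, (bcMap h F).app W (σ z) = σ' (κ z) := by
    intro z
    induction z using TensorProduct.induction_on with
    | zero =>
      have h0 : κ 0 = 0 := by simp [κ]
      rw [h0, map_zero, map_zero, map_zero]
    | add a b ha hb =>
      rw [map_add, map_add, ha, hb]
      simp [κ]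
    | tmul b s =>
      have hk : κ (b ⊗ₜ s) = f'.app W b ⊗ₜ (ι s) := by
        simp only [κ, Equiv.trans_apply, LinearEquiv.coe_toEquiv, LinearEquiv.lTensor_tmul,
          Algebra.IsPushout.cancelBaseChange_symm_tmul]
        rfl
      rw [hk]
      show (bcMap h F).app W (b • QCoh.pullSec g ((pushforward f).obj F) hle s) = _
      rw [Scheme.Modules.Hom.app_smul, bcMap_pullSec]
      rfl
  have hb1 := QCoh.bijective_sectionsMap g ((pushforward f).obj F) hle rfl hV hW
  have hb2 := QCoh.bijective_sectionsMap g' F hle2 rfl hU hP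
  have hcomp : Function.Bijective ((bcMap h F).app W ∘ σ) := by
    rw [show ((bcMap h F).app W ∘ σ) = σ' ∘ κ from funext key]
    exact hb2.comp κ.bijective
  exact (Function.Bijective.of_comp_iff _ hb1).1 hcomp

/-- **Affine base change.** -/
theorem isIso_bcMap (h : IsPullback g' f' f g) [IsAffineHom f] (F : X.Modules) [F.IsQuasicoherent] :
    IsIso (bcMap h F) := by
  haveI : IsAffineHom f' := MorphismProperty.of_isPullback h ‹IsAffineHom f›
  haveI := QCoh.isQuasicoherent_pushforward f F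
  haveI := FittSheaf.isQuasicoherent_pullback g ((pushforward f).obj F)
  haveI := FittSheaf.isQuasicoherent_pullback g' F
  haveI := QCoh.isQuasicoherent_pushforward f' ((pullback g').obj F)
  let ι := {p : S.affineOpens × S'.affineOpens // p.2.1 ≤ g ⁻¹ᵁ p.1.1}
  refine QCoh.isIso_of_bijective_on_cover (bcMap h F) (fun p : ι => p.1.2.1) ?_ (fun p => p.1.2.2)
    fun p => bijective_app h F p.1.1.2 p.1.2.2 p.2
  refine top_le_iff.1 fun y (_ : y ∈ (⊤ : S'.Opens)) => ?_
  obtain ⟨_, ⟨V, hV, rfl⟩, hyV, -⟩ := S.isBasis_affineOpens.exists_subset_of_mem_open (Set.mem_univ (g y)) isOpen_univ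
  obtain ⟨_, ⟨W, hW, rfl⟩, hyW, hWV⟩ := S'.isBasis_affineOpens.exists_subset_of_mem_open
    (show y ∈ ((g ⁻¹ᵁ V : S'.Opens) : Set S') from hyV) (g ⁻¹ᵁ V).2
  exact Opens.mem_iSup.2 ⟨⟨(⟨V, hV⟩, ⟨W, hW⟩), hWV⟩, hyW⟩

end GrothLib.AffBC
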